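/-
PSU(4,3) as permutations of 280 isotropic lines, with four generators and their tables.

* `PU`, `gen`, `tab`, `sound` : the group, the generators, the tables
* `eq_one_of_fix`, `closure_gen` : five lines determine an element; the generators generate
-/
import Cfsg.Agent.Lib.Leech.PSU43.Checks
import Cfsg.Agent.Lib.Unitary.Center

set_option autoImplicit false
set_option linter.style.haveILetI false
set_option maxRecDepth 100000

namespace Cfsg.Agent.MultiplierUFourThree

open Cfsg.Agent.StabCert Cfsg.Agent.Leech Cfsg.Agent.Unitary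

/-- Packed tables of the generators on the lines. -/
def tab : List ℕ := [0x638d8866875b3c101e1227c1f003fa48e68a2ac55cc052d2b88c165d2a1fe60252616cf0580f8b2f16105c40523397da40a513b07e6c843bc20946ec0d7c740da0916454d315aee8561584c96723883aa304c440eab72aec166e34a74880044844ec863a94c84f673bd0566620be9107946a0cd50f6a804bca9288600c4c1392c38632ec4dda97378882aaf7925602a0699014ef96597204e0073dddd095ba3c32853d0b8c2bf7e3d428c124b454b103145d5a5b270d1380386a8454fb2baa89e044084cf08748921d2a43207d8c9b861ada00d8a2e46afd71b34342c5c266166d23ac586f326b50189e6f9c5fca61e9421cbc329c0ee3c5eb85f0cc1c2d190d96e2c8b0316c36e0ab3390e464b5094105107470e992303d9f0fc7d1d88db4de149504b1683300670a6b310043710baa24ce46201089017a4c5aca, 0x4a3487656678a5da125e3a90c688a058c6df7a31896ff4c29832aa71964f82a2481cfed943921ccc11bb94303a3880c383163a25f8f0680f61e9d5aac12ebd1f1f994450ba2dba0588a01a87b891ad74de4718856cd3ebe1ecd356288369a64928f4c059944a4f28b1bcb50d1408e080e34badd0c21fc0d40b208a5804387aae4ccf9160bc2b15461c84ed13ac32266e40918eedc7f39198417da654aa84dafc807667171fa3212874aab71cb9cba781a41cd485282f9b482361cc5c144e2b8269e5d8f114c45190c1b05423ddde673a098aeb8704084004658b5c21a7996d10302983d06e9223886ac33cc022e6446909d90e5b07d4e4756ac5489f2782d1ed504c2520958318616604893190d649178440857934029384028bed7273ba14652c4046c216c3e8480c628cde21050aa568ab88018dadb2a078e000,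 0x10174feee382516c39660a602870c044100d330f55c903cab48e306b9f8d2c43713ce8fc393cd1c1009850125c1fa99007d4e90c683c5fc115e937b0716e4e61a7dd2ac7db3cbc2832b692c9546a95d67636b00c0493c3e1de824c40d96621b1adac9a48ac41c0b1d2e5782f78c25a4711c154446747b98586f75279902176c543419060161cd81a908a4cd4bb65be7a2fb39ef0a7a2f846e58284836040abe9c031233d5a6540e8f9931453990a688803085afd39a721ec534351490b2231d36d56da28c6ca833a1a0337c9dd40ff609b151170f15c2c072c105448c19185bcaa630de1a7b2b0edfcec159311299288980c0f8b3c1ce92202f610a3813704e503aa849a2a0505cd4453e43090d155b75701f5841d02a91716516f289391c686252ee20b35a44d0ab51216d06e22d12d64845d095c3110100c0200, 0x382516c392d12d64843214d11001716516f20d0641805759d8dac0680cdf2773ea7486346a39d245820a8918937b0716e3230b795418088201a4a5dc41669c87b14d07550934545266a5db29548ac4d4453e430586f7527874b96da28c6ca563ed9e5e0303de68e42ad57c2372c14485b41b88241b02055ae7e34b11a4711c155782f78c2490d155b7450656d259fcec15930e506740402614049017b0851a81fec1362e84ae188bd5a6540eb30530143c39b0352118092787c3dd61076f9e8bece4c40d96620505c9cc34fba58c37869ec3c5789391490b330f55c90610b5fa733cab48e3071a186c6b6b26a04dc1394214f42b0ec2c071e2fe08af44a64a2262231d36d546a95f4e018918dc4f3a3f169130702d701f1119d1ee677a0902a964085db158b3c151172e0fd4c801f32628a710174feee0100c0200]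

theorem tab_ok : ((List.range 4).all fun k => (List.range 280).all fun q =>
    Nat.beq (look 9 (tab.getD k 0) q + 115) (look 9 (PSU43.tab.getD k 0) (115 + q))) = true := by
  decide +kernel

/-- Five lines determining an element. -/
def base : List ℕ := [98, 23, 222, 209, 54]

theorem base_ok : PSU43.data.Br.map (fun b => b - 115) = base := by decide +kernel

variable {F : Type} [Field F] [Fintype F] (hF : Fintype.card F = 3 ^ 2) (φ : Quad 3 2 0 →+* F)
  (hφ : ∀ z, φ (star z) = φ z ^ 3)

/-- The group on the lines. -/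
abbrev PU (F : Type) [Field F] [Fintype F] : Subgroup (Equiv.Perm (IsoLine 4 F 3)) :=
  (permHom 4 F 3).range

theorem gen_mem (k : ℕ) : (PSU43.data.gen F hF φ hφ k).2 ∈ PU F := by
  rw [PSUData.gen]
  split_ifs
  · exact ⟨_, rfl⟩
  · exact one_mem _

/-- The generators. -/
noncomputable def gen (k : ℕ) : PU F := ⟨_, gen_mem hF φ hφ k⟩

theorem zero_line : lineOK (PSU43.data.right 0) = true :=
  PSUData.lineOK_right PSU43.data_ok (by decide)

/-- The lines by number. -/
noncomputable def pt (q : ℕ) : IsoLine 4 F 3 :=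
  if h : lineOK (PSU43.data.right q) = true then lineOf φ hφ _ h else lineOf φ hφ _ zero_line

theorem pt_spec {q : ℕ} (hq : q < 280) :
    PSU43.data.pt F φ hφ (115 + q) = .inr (pt φ hφ q) := by
  have hq' : lineOK (PSU43.data.right q) = true := PSUData.lineOK_right PSU43.data_ok hq
  rw [PSUData.pt_right φ hφ PSU43.data_ok (Nat.le_add_right 115 q)
    (show 115 + q < 115 + 280 by omega), pt, dif_pos hq']
  congr 2
  show PSU43.data.right (115 + q - 115) = _
  rw [Nat.add_sub_cancel_left]

theorem sound : TablesSound (PU F).subtype (gen hF φ hφ) (pt φ hφ) 9 280 4 tab := by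
  intro k hk q hq
  have h := List.all_eq_true.1 (List.all_eq_true.1 tab_ok k (List.mem_range.2 hk)) q (List.mem_range.2 hq)
  rw [Nat.beq_eq] at h
  obtain ⟨h1, h2⟩ := PSUData.tablesSound hF φ hφ PSU43.data_ok k hk (115 + q)
    (show 115 + q < 115 + 280 by omega)
  change look 9 (PSU43.tab.getD k 0) (115 + q) < 115 + 280 at h1
  have hlt : look 9 (tab.getD k 0) q < 280 := by omega
  refine ⟨hlt, ?_⟩
  change _ = PSU43.data.pt F φ hφ (look 9 (PSU43.tab.getD k 0) (115 + q)) at h2
  rw [← h, Nat.add_comm _ 115, pt_spec φ hφ hlt, pt_spec φ hφ hq] at h2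
  exact Sum.inr_injective h2

theorem pt_injOn : Set.InjOn (pt φ hφ) {q | q < 280} := by
  intro i (hi : i < 280) j (hj : j < 280) e
  have hinj := PSUData.injOn_pt φ hφ PSU43.data_ok (Quad.hom_injective (by decide +kernel) φ)
    (show 115 + i < 115 + 280 by omega) (show 115 + j < 115 + 280 by omega)
    (by rw [pt_spec φ hφ hi, pt_spec φ hφ hj, e])
  omega

include hF in
theorem eq_one_of_fix {g : PU F} (h : ∀ b ∈ base, (g : Equiv.Perm _) (pt φ hφ b) = pt φ hφ b) :
    g = 1 := by
  have hb : ∀ β ∈ PSU43.data.Br, 115 ≤ β ∧ β < 395 := by decide +kernel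
  have h1 : ((1 : Co0), (g : Equiv.Perm (IsoLine 4 F 3))) = 1 := by
    refine PSUData.eq_one_of_fix_base hF φ hφ PSU43.data_ok (by norm_num) g.2 (fun β hβ => ?_)
      (fun _ β hβ => ?_)
    · obtain ⟨l1, l2⟩ := hb β hβ
      have hm : β - 115 ∈ base := base_ok ▸ List.mem_map.2 ⟨β, hβ, rfl⟩
      obtain ⟨b, rfl⟩ : ∃ b, β = 115 + b := ⟨β - 115, by omega⟩
      rw [Nat.add_sub_cancel_left] at hm
      rw [pt_spec φ hφ (show b < 280 by omega)]
      show Sum.inr ((g : Equiv.Perm (IsoLine 4 F 3)) _) = _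
      rw [h b hm]
    · have hl : ∀ β ∈ PSU43.data.Bl, β < 115 := by decide +kernel
      rw [PSUData.pt_left φ hφ (hl β hβ)]
      show Sum.inl ((1 : Co0) • PSU43.data.leftV β) = _
      rw [one_smul]
  exact Subtype.ext (congrArg Prod.snd h1)

include hF in
theorem natCard_PU : Nat.card (PU F) = 3265920 := by
  obtain ⟨e⟩ := nonempty_range_permHom (n := 4) (p := 3) hF (by norm_num)
  rw [Nat.card_congr e.toEquiv]
  have h := Unitary.card_PSU (n := 4) hF (by norm_num)
  simp [Finset.prod_range_succ, Nat.even_iff] at h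
  omega

theorem closure_gen : Subgroup.closure (gen hF φ hφ '' {k | k < 4}) = ⊤ := by
  classical
  haveI : Finite (IsoLine 4 F 3) :=
    Finite.of_injective (fun P => ((P.1 : Submodule F (Fin 4 → F)) : Set (Fin 4 → F)))
      fun P Q e => Subtype.ext (SetLike.ext' e)
  let g2 := PSU43.data.gen F hF φ hφ
  let S := StabCert.sub g2 (List.range 4)
  have hrange : ∀ x ∈ S, x.2 ∈ PU F := by
    intro x hx
    have hle : S ≤ (PU F).comap (MonoidHom.snd Co0 (Equiv.Perm (IsoLine 4 F 3))) := by
      rw [show S = Subgroup.closure _ from rfl, Subgroup.closure_le]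
      rintro _ ⟨k, -, rfl⟩
      exact gen_mem hF φ hφ k
    exact hle hx
  have hts := PSUData.tablesSound hF φ hφ PSU43.data_ok
  have hinj := PSUData.injOn_pt φ hφ PSU43.data_ok (Quad.hom_injective (by decide +kernel) φ)
  obtain ⟨hnm, hcard, htriv⟩ := chain_spec hts hinj
    (show ∀ β ∈ PSU43.data.cmp, β < 115 + 280 by decide +kernel)
    (fun x hx h => PSUData.eq_one_of_fix_base hF φ hφ PSU43.data_ok (by norm_num) (hrange x hx)
      (fun β hβ => h β (List.mem_append_right _ hβ)) fun _ β hβ => h β (List.mem_append_left _ hβ))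
    _ PSU43.chain_ok
  have hall : nextGens PSU43.data.chain = List.range 4 := by decide +kernel
  rw [hall] at hcard htriv
  let f : S →* PU F :=
    ((MonoidHom.snd Co0 (Equiv.Perm (IsoLine 4 F 3))).comp S.subtype).codRestrict _
      fun x => hrange x.1 x.2
  have hf : Function.Injective f := by
    refine (injective_iff_map_eq_one f).2 fun x hx => Subtype.ext (htriv x.1 x.2 fun L hL => ?_)
    have hb : ∀ L ∈ PSU43.data.chain, 115 ≤ L.b ∧ L.b < 395 := by decide +kernel
    obtain ⟨l1, l2⟩ := hb L hL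
    obtain ⟨b, hb'⟩ : ∃ b, L.b = 115 + b := ⟨L.b - 115, by omega⟩
    rw [hb', pt_spec φ hφ (show b < 280 by omega)]
    show Sum.inr (x.1.2 _) = _
    rw [show x.1.2 = 1 from congrArg Subtype.val hx]
    rfl
  have hsurj : Function.Surjective f := by
    refine ((Nat.bijective_iff_injective_and_card f).2 ⟨hf, ?_⟩).2
    rw [hcard, natCard_PU hF]
    decide +kernel
  rw [eq_top_iff]
  intro y _
  obtain ⟨x, rfl⟩ := hsurj y
  have hmap : (⊤ : Subgroup S).map f ≤ Subgroup.closure (gen hF φ hφ '' {k | k < 4}) := by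
    have htop : (⊤ : Subgroup S) = Subgroup.closure (((↑) : S → _) ⁻¹' (g2 '' {k | k ∈ List.range 4})) :=
      (Subgroup.closure_closure_coe_preimage).symm
    rw [htop, MonoidHom.map_closure, Subgroup.closure_le]
    rintro _ ⟨z, ⟨k, hk, hz⟩, rfl⟩
    refine Subgroup.subset_closure ⟨k, List.mem_range.1 hk, Subtype.ext ?_⟩
    show (g2 k).2 = z.1.2
    rw [hz]
  exact hmap ⟨x, Subgroup.mem_top _, rfl⟩

end Cfsg.Agent.MultiplierUFourThree
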